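import Cfsg.Agent.Lib.UnitaryThreeThree.Lines
import Cfsg.Agent.Lib.GLFlags.Unipotent
import Cfsg.Agent.Lib.Char.Virtual
import Cfsg.Prelude.Def_Blocks
import Mathlib.NumberTheory.Zsqrtd.GaussianInt

/-!
Irreducible characters of degrees 6, 21 and 28 of the unitary group in three dimensions over nine elements.
-/

set_option autoImplicit false

namespace CfsgLib.UThree

open scoped ComplexConjugate

/-- coefficient of a power of the root of unity -/
def coef (cnt : ℕ → ℕ) (j m : ℕ) : ℤ :=
  ((List.range 8).map fun k =>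
    (if j * k % 8 = m then (cnt k : ℤ) else 0) - (if j * k % 8 = m + 4 then (cnt k : ℤ) else 0)).sum

theorem sum_om_pow (cnt : ℕ → ℕ) (j : ℕ) :
    ∑ k : Fin 8, (cnt k.val : ℂ) * om ^ (j * k.val) = ∑ m : Fin 4, (coef cnt j m.val : ℂ) * om ^ m.val := by
  have h : ∀ k : ℕ, (cnt k : ℂ) * om ^ (j * k) = ∑ m : Fin 4,
      (((if j * k % 8 = m.val then (cnt k : ℤ) else 0) - (if j * k % 8 = m.val + 4 then (cnt k : ℤ) else 0) : ℤ) : ℂ)
        * om ^ m.val := by
    intro k
    rw [om_mod (j * k)]
    have h8 : j * k % 8 < 8 := Nat.mod_lt _ (by norm_num)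
    generalize j * k % 8 = e at h8
    have h4 : ∀ m : ℕ, om ^ (4 + m) = -om ^ m := fun m => by rw [pow_add, om_pow_four]; ring
    have a4 := h4 0
    have a5 := h4 1
    have a6 := h4 2
    have a7 := h4 3
    interval_cases e <;> simp [Fin.sum_univ_four] at a4 a5 a6 a7 ⊢ <;>
      simp [a4, a5, a6, a7]
  simp only [h]
  rw [Finset.sum_comm]
  refine Finset.sum_congr rfl fun m _ => ?_
  rw [← Finset.sum_mul]
  congr 1
  simp [coef, List.range_succ, Fin.sum_univ_eight]
  ring

/-- Gaussian value of a monomial character at a representative -/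
def gval (L : LineSys) (j c : ℕ) : GaussianInt :=
  ⟨coef (fixCount L (repc c)) j 0, coef (fixCount L (repc c)) j 2⟩

/-- the odd coefficients vanish -/
def realOk (L : LineSys) (j : ℕ) : Bool :=
  (List.range 14).all fun c =>
    decide (coef (fixCount L (repc c)) j 1 = 0) && decide (coef (fixCount L (repc c)) j 3 = 0)

/-- number of fixed frames at a representative -/
def frameVal (c : ℕ) : GaussianInt :=
  ((((List.range 63).filter (frameFixed (repc c))).length : ℕ) : GaussianInt)

/-- table for the character of degree 28 -/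
def g28 (c : ℕ) : GaussianInt := gval iso 1 c

/-- table for the character of degree 21 -/
def g21 (c : ℕ) : GaussianInt :=
  gval iso 2 c + gval iso 6 c + gval iso 1 c + gval non 0 c - gval non 1 c - frameVal c

/-- table for the character of degree 6 -/
def g6 (c : ℕ) : GaussianInt :=
  3 * gval non 0 c + 8 * (gval iso 0 c * gval iso 1 c) - 2 * frameVal c + gval iso 1 c * gval iso 1 c
    - 3 * gval iso 1 c + gval iso 3 c - 4 * (gval non 0 c * gval iso 1 c) - 1

/-- the norm of a table -/
def gnorm (f : ℕ → GaussianInt) : GaussianInt :=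
  ((List.range 14).map fun c => ((sizes.getD c 0 : ℕ) : GaussianInt) * (f c * star (f c))).sum

theorem tables :
    (realOk iso 0 = true ∧ realOk iso 1 = true ∧ realOk iso 2 = true ∧ realOk iso 3 = true ∧
      realOk iso 6 = true ∧ realOk non 0 = true ∧ realOk non 1 = true) ∧
    (gnorm g28 = 6048 ∧ gnorm g21 = 6048 ∧ gnorm g6 = 6048) ∧
    (g28 12 = 28 ∧ g21 12 = 21 ∧ g6 12 = 6) := by decide +kernel

theorem one_idx : eltc (repIdx.getD 12 0) = ((1, 0, 0), (0, 1, 0), (0, 0, 1)) := by decide +kernel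

variable {F : Type*} [Field F] [Fintype F] (D : Nine F)

theorem repG_twelve : D.repG 12 = 1 := by
  refine Subtype.ext (Subtype.ext ?_)
  show D.decM (eltc (repIdx.getD 12 0)) = 1
  rw [one_idx]
  ext i j
  fin_cases i <;> fin_cases j <;> simp [Nine.decM, Nine.decV, dec_zero, dec_one]

theorem value_rep (L : LineSys) (j : ℕ) (h : realOk L j = true) (c : Fin 14) :
    (D.datum L j).value (D.repG c) = GaussianInt.toComplex (gval L j c.val) := by
  rw [value_eq D L (coe_repG D c) j, sum_om_pow, GaussianInt.toComplex_def₂]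
  have h' := List.all_eq_true.1 h c.val (List.mem_range.2 c.2)
  simp only [Bool.and_eq_true, decide_eq_true_eq] at h'
  apply Complex.ext <;>
    simp [Fin.sum_univ_four, h'.1, h'.2, gval, om_sq]

theorem frameValue_rep (c : Fin 14) :
    D.frameDatum.value (D.repG c) = GaussianInt.toComplex (frameVal c.val) := by
  rw [frame_value_eq D (coe_repG D c), frameVal, map_natCast]

theorem gen_value {R : Type*} [Fintype R] [DecidableEq R] (M : CfsgLib.Monomial.Datum (Cfsg.SU 3 F 3) R) :
    Cfsg.IsGeneralizedCharacter (Cfsg.SU 3 F 3) M.value :=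
  CfsgLib.Char.IsCharacter.isGeneralizedCharacter M.isCharacter_value

/-- character of degree 28 -/
noncomputable def Nine.chi28 : Cfsg.SU 3 F 3 → ℂ := (D.datum iso 1).value

/-- character of degree 21 -/
noncomputable def Nine.chi21 : Cfsg.SU 3 F 3 → ℂ :=
  (D.datum iso 2).value + (D.datum iso 6).value + (D.datum iso 1).value + (D.datum non 0).value
    - (D.datum non 1).value - D.frameDatum.value

/-- character of degree 6 -/
noncomputable def Nine.chi6 : Cfsg.SU 3 F 3 → ℂ :=
  ((3 : ℤ) : ℂ) • (D.datum non 0).value + ((8 : ℤ) : ℂ) • ((D.datum iso 0).value * (D.datum iso 1).value)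
    - ((2 : ℤ) : ℂ) • D.frameDatum.value + (D.datum iso 1).value * (D.datum iso 1).value
    - ((3 : ℤ) : ℂ) • (D.datum iso 1).value + (D.datum iso 3).value
    - ((4 : ℤ) : ℂ) • ((D.datum non 0).value * (D.datum iso 1).value) - 1

open CfsgLib.Char.IsGeneralizedCharacter in
theorem gen_chars : Cfsg.IsGeneralizedCharacter (Cfsg.SU 3 F 3) D.chi28 ∧
    Cfsg.IsGeneralizedCharacter (Cfsg.SU 3 F 3) D.chi21 ∧
    Cfsg.IsGeneralizedCharacter (Cfsg.SU 3 F 3) D.chi6 :=
  ⟨gen_value _,
    sub (sub (add (add (add (gen_value _) (gen_value _)) (gen_value _)) (gen_value _)) (gen_value _))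
      (gen_value _),
    sub (sub (add (sub (add (sub (add (intCast_smul (gen_value _) 3)
      (intCast_smul (mul (gen_value _) (gen_value _)) 8)) (intCast_smul (gen_value _) 2))
      (mul (gen_value _) (gen_value _))) (intCast_smul (gen_value _) 3)) (gen_value _))
      (intCast_smul (mul (gen_value _) (gen_value _)) 4)) one⟩

theorem rep_values (c : Fin 14) : D.chi28 (D.repG c) = GaussianInt.toComplex (g28 c.val) ∧
    D.chi21 (D.repG c) = GaussianInt.toComplex (g21 c.val) ∧
    D.chi6 (D.repG c) = GaussianInt.toComplex (g6 c.val) := by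
  obtain ⟨⟨a0, a1, a2, a3, a6, b0, b1⟩, -, -⟩ := tables
  refine ⟨value_rep D iso 1 a1 c, ?_, ?_⟩
  · simp only [Nine.chi21, g21, map_add, map_sub, Pi.add_apply, Pi.sub_apply, value_rep D iso 2 a2,
      value_rep D iso 6 a6, value_rep D iso 1 a1, value_rep D non 0 b0, value_rep D non 1 b1, frameValue_rep]
  · simp only [Nine.chi6, g6, map_add, map_sub, map_mul, map_one, map_ofNat, Pi.add_apply, Pi.sub_apply,
      Pi.mul_apply, Pi.smul_apply, Pi.one_apply, smul_eq_mul, value_rep D iso 0 a0, value_rep D iso 1 a1,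
      value_rep D iso 3 a3, value_rep D non 0 b0, frameValue_rep]
    norm_num

theorem isIrr_of_table [Fintype (Cfsg.SU 3 F 3)] {θ : Cfsg.SU 3 F 3 → ℂ}
    (hθ : Cfsg.IsGeneralizedCharacter (Cfsg.SU 3 F 3) θ) {f : ℕ → GaussianInt} {d : ℕ} (hd : 0 < d)
    (hv : ∀ c : Fin 14, θ (D.repG c) = GaussianInt.toComplex (f c.val))
    (hn : gnorm f = 6048) (h1 : f 12 = (d : GaussianInt)) :
    Cfsg.IsIrrCharacter (Cfsg.SU 3 F 3) θ ∧ Cfsg.charDegree θ = d := by
  have e1 : θ 1 = (d : ℂ) := by
    rw [← repG_twelve D, hv 12, show ((12 : Fin 14) : ℕ) = 12 from rfl, h1, map_natCast]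
  refine ⟨CfsgLib.GLFlags.isIrrCharacter_of_norm_one hθ ?_ ⟨d, by exact_mod_cast hd, by rw [e1]; simp⟩,
    by rw [Cfsg.charDegree, e1]; simp⟩
  have hcl := CfsgLib.Char.IsGeneralizedCharacter.isClassFunction hθ
  rw [Cfsg.classInner, card_SU D, sum_by_class D (fun g => θ g * conj (θ g))
    (fun a b h => by rw [CfsgLib.Char.IsClassFunction.eq_of_isConj hcl h])]
  have hs : ∑ c : Fin 14, (sizes.getD c.val 0 : ℂ) * (θ (D.repG c) * conj (θ (D.repG c))) =
      GaussianInt.toComplex (gnorm f) := by
    rw [show gnorm f = ∑ c ∈ Finset.range 14, ((sizes.getD c 0 : ℕ) : GaussianInt) * (f c * star (f c)) from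
      rfl, map_sum, Finset.sum_range]
    refine Finset.sum_congr rfl fun c _ => ?_
    rw [map_mul, map_mul, GaussianInt.toComplex_star, map_natCast, hv c]
  rw [hs, hn, map_ofNat]
  norm_num

end CfsgLib.UThree
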