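import Cfsg.Agent.Lib.UnitaryThreeThree.MonomialPerm
import Cfsg.Agent.Lib.GLFlags.Unipotent
import Cfsg.Prelude.Def_DegreeGraph
import Mathlib.GroupTheory.SemidirectProduct
import Mathlib.GroupTheory.SpecificGroups.Dihedral
import Mathlib.GroupTheory.Solvable
import Mathlib.NumberTheory.LegendreSymbol.AddCharacter
import Mathlib.Analysis.SpecialFunctions.Complex.CircleAddChar

/-!
A solvable group of order 6048 with an irreducible character of degree 42.
-/

set_option autoImplicit false

namespace CfsgLib.UThree.Witness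

open scoped ComplexConjugate

/-- the abelian normal subgroup -/
abbrev A : Type := (ZMod 2 × ZMod 2 × ZMod 2) × (ZMod 3 × ZMod 3) × ZMod 2

/-- the acting group -/
abbrev Q : Type := Multiplicative (ZMod 7) × DihedralGroup 3

/-- automorphism of order seven -/
def step (v : ZMod 2 × ZMod 2 × ZMod 2) : ZMod 2 × ZMod 2 × ZMod 2 := (v.2.2, v.1 + v.2.2, v.2.1)

/-- action of the dihedral group -/
def dih : DihedralGroup 3 → ZMod 3 × ZMod 3 → ZMod 3 × ZMod 3
  | .r i, w => (w.1, w.2 + i * w.1)
  | .sr i, w => (w.1, -(w.2 + i * w.1))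

/-- action of the group -/
def act (q : Q) (a : A) : A := (step^[q.1.toAdd.val] a.1, dih q.2 a.2.1, a.2.2)

theorem act_add : ∀ (q : Q) (a b : A), act q (a + b) = act q a + act q b := by
  have h1 : ∀ v w : ZMod 2 × ZMod 2 × ZMod 2, step (v + w) = step v + step w := by decide +kernel
  have h2 : ∀ (d : DihedralGroup 3) (v w : ZMod 3 × ZMod 3), dih d (v + w) = dih d v + dih d w := by
    decide +kernel
  have h3 : ∀ (n : ℕ) (v w : ZMod 2 × ZMod 2 × ZMod 2), step^[n] (v + w) = step^[n] v + step^[n] w := by
    intro n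
    induction n with
    | zero => intro v w; rfl
    | succ n ih => intro v w; simp [Function.iterate_succ_apply, h1, ih]
  intro q a b
  exact Prod.ext (h3 _ _ _) (Prod.ext (h2 _ _ _) rfl)

theorem act_one (a : A) : act 1 a = a := by
  have : ∀ w, dih (1 : DihedralGroup 3) w = w := by decide +kernel
  exact Prod.ext rfl (Prod.ext (this _) rfl)

theorem act_mul (p q : Q) (a : A) : act (p * q) a = act p (act q a) := by
  have h1 : ∀ (i j : ZMod 7) (v : ZMod 2 × ZMod 2 × ZMod 2),
      step^[(i + j).val] v = step^[i.val] (step^[j.val] v) := by decide +kernel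
  have h2 : ∀ (d e : DihedralGroup 3) (w : ZMod 3 × ZMod 3), dih (d * e) w = dih d (dih e w) := by
    decide +kernel
  exact Prod.ext (h1 _ _ _) (Prod.ext (h2 _ _ _) rfl)

/-- the action as automorphisms -/
def phi : Q →* MulAut (Multiplicative A) where
  toFun q :=
    { toFun := fun a => .ofAdd (act q a.toAdd)
      invFun := fun a => .ofAdd (act q⁻¹ a.toAdd)
      left_inv := fun a => by simp [← act_mul, act_one]
      right_inv := fun a => by simp [← act_mul, act_one]
      map_mul' := fun a b => by simp [act_add] }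
  map_one' := MulEquiv.ext fun a => by simp [act_one]
  map_mul' p q := MulEquiv.ext fun a => by simp [act_mul]

/-- the group -/
abbrev H : Type := Multiplicative A ⋊[phi] Q

instance : Finite H := Finite.of_equiv _ SemidirectProduct.equivProd.symm

theorem card_H : Nat.card H = 6048 := by
  rw [Nat.card_congr SemidirectProduct.equivProd, Nat.card_prod]
  simp [A, Q, Nat.card_eq_fintype_card, DihedralGroup.card]

theorem isSolvable_H : Group.IsSolvable H := by
  have : Group.IsSolvable (DihedralGroup 3) := by
    have h : ∀ a b : DihedralGroup 3, ∃ i, a * b * a⁻¹ * b⁻¹ = .r i := by decide +kernel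
    have hle : ⁅(⊤ : Subgroup (DihedralGroup 3)), ⊤⁆ ≤ Subgroup.zpowers (DihedralGroup.r (1 : ZMod 3)) := by
      rw [Subgroup.commutator_le]
      intro a _ b _
      obtain ⟨i, hi⟩ := h a b
      rw [commutatorElement_def, hi]
      exact ⟨i.val, by show DihedralGroup.r 1 ^ (i.val : ℤ) = _; rw [zpow_natCast, DihedralGroup.r_one_pow, ZMod.natCast_zmod_val]⟩
    refine ⟨⟨2, ?_⟩⟩
    rw [derivedSeries_succ, derivedSeries_succ, derivedSeries_zero, ← le_bot_iff, Subgroup.commutator_le]
    intro x hx y hy
    rw [Subgroup.mem_bot, commutatorElement_eq_one_iff_mul_comm]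
    obtain ⟨a, rfl⟩ := hle hx
    obtain ⟨b, rfl⟩ := hle hy
    exact ((Commute.refl _).zpow_zpow a b).eq
  exact Group.isSolvable_of_ker_le_range (SemidirectProduct.inl (φ := phi)) SemidirectProduct.rightHom
    (SemidirectProduct.range_inl_eq_ker_rightHom (φ := phi)).ge

/-- the linear form -/
def form (a : A) : ZMod 6 := ![0, 3] a.1.1 + ![0, 2, 4] a.2.1.2

theorem form_add : ∀ a b : A, form (a + b) = form a + form b := by
  have h : ∀ (x y : ZMod 2) (u v : ZMod 3), (![0, 3] (x + y) + ![0, 2, 4] (u + v) : ZMod 6) =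
      (![0, 3] x + ![0, 2, 4] u) + (![0, 3] y + ![0, 2, 4] v) := by decide +kernel
  intro a b
  exact h _ _ _ _

theorem form_free : ∀ q : Q, q ≠ 1 → ∃ a : A, form (act q a) ≠ form a := by decide +kernel

/-- the linear character -/
noncomputable def lam : AddChar A ℂ :=
  (ZMod.stdAddChar (N := 6)).compAddMonoidHom ⟨⟨form, by decide +kernel⟩, form_add⟩

/-- the conjugated linear character -/
noncomputable def lamQ (r : Q) : AddChar A ℂ :=
  lam.compAddMonoidHom ⟨⟨act r⁻¹, by
    have := act_add r⁻¹ 0 0
    rw [add_zero] at this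
    exact left_eq_add.1 this⟩, act_add r⁻¹⟩

theorem lamQ_apply (r : Q) (a : A) : lamQ r a = lam (act r⁻¹ a) := rfl

theorem lamQ_injective : Function.Injective lamQ := by
  intro r s h
  by_contra hne
  obtain ⟨a, ha⟩ := form_free (r⁻¹ * s) (fun e => hne (inv_mul_eq_one.1 e))
  have h' := DFunLike.congr_fun h (act s a)
  rw [lamQ_apply, lamQ_apply, ← act_mul, ← act_mul, inv_mul_cancel, act_one] at h'
  exact ha (ZMod.injective_stdAddChar h')

/-- the monomial datum -/
noncomputable def datum : CfsgLib.Monomial.Datum H Q where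
  perm := (MulAction.toPermHom Q Q).comp SemidirectProduct.rightHom
  mult g r := lamQ (g.right * r) g.left.toAdd
  mult_one r := AddChar.map_zero_eq_one _
  mult_mul g h r := by
    show lamQ ((g * h).right * r) (g * h).left.toAdd =
      lamQ (g.right * (h.right * r)) g.left.toAdd * lamQ (h.right * r) h.left.toAdd
    rw [SemidirectProduct.mul_left, SemidirectProduct.mul_right, toAdd_mul, AddChar.map_add_eq_mul,
      mul_assoc]
    congr 1
    show lam (act (g.right * (h.right * r))⁻¹ (act g.right h.left.toAdd)) = _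
    rw [← act_mul, _root_.mul_inv_rev, inv_mul_cancel_right]
    rfl

theorem value_one : datum.value 1 = 42 := by
  simp only [CfsgLib.Monomial.Datum.value, map_one, Equiv.Perm.one_apply, if_true, datum.mult_one]
  simp [Q, DihedralGroup.card]

theorem value_eq (g : H) : datum.value g = if g.right = 1 then ∑ r, lamQ r g.left.toAdd else 0 := by
  rw [CfsgLib.Monomial.Datum.value]
  split_ifs with h
  · refine Finset.sum_congr rfl fun r _ => ?_
    show (if g.right * r = r then lamQ (g.right * r) g.left.toAdd else 0) = _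
    rw [h, one_mul, if_pos rfl]
  · refine Finset.sum_eq_zero fun r _ => ?_
    show (if g.right * r = r then lamQ (g.right * r) g.left.toAdd else 0) = _
    rw [if_neg fun e => h (mul_eq_right.1 e)]

theorem inner_one [Fintype H] : Cfsg.classInner datum.value datum.value = 1 := by
  classical
  rw [Cfsg.classInner, card_H, ← SemidirectProduct.equivProd.symm.sum_comp, Fintype.sum_prod_type]
  have e : ∀ (a : Multiplicative A) (q : Q), datum.value (SemidirectProduct.equivProd.symm (a, q)) =
      if q = 1 then ∑ r, lamQ r a.toAdd else 0 := fun a q => value_eq _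
  simp only [e]
  rw [Finset.sum_congr rfl fun a _ => Finset.sum_eq_single (1 : Q) (fun q _ hq => by simp [if_neg hq])
    (fun h => absurd (Finset.mem_univ _) h)]
  simp only [if_pos, map_sum, Finset.sum_mul_sum]
  rw [Finset.sum_comm]
  have orth : ∀ r s : Q, ∑ a : Multiplicative A, lamQ r a.toAdd * conj (lamQ s a.toAdd) =
      if r = s then (144 : ℂ) else 0 := by
    intro r s
    have h1 : ∀ a : A, lamQ r a * conj (lamQ s a) = (lamQ r / lamQ s) a := by
      intro a
      rw [AddChar.div_apply', ← AddChar.map_neg_eq_conj, AddChar.map_neg_eq_inv, div_eq_mul_inv]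
    simp only [h1]
    rw [← Multiplicative.ofAdd.sum_comp]
    show ∑ a : A, (lamQ r / lamQ s) a = _
    rw [AddChar.sum_eq_ite]
    by_cases h : r = s
    · subst h
      rw [if_pos (by rw [div_self']; rfl), if_pos rfl]
      simp [A]
    · rw [if_neg h, if_neg]
      intro h0
      exact h (lamQ_injective (div_eq_one.1 h0))
  have : ∀ r : Q, ∑ a : Multiplicative A, ∑ s : Q, lamQ r a.toAdd * conj (lamQ s a.toAdd) = 144 := by
    intro r
    rw [Finset.sum_comm, Finset.sum_congr rfl fun s _ => orth r s, Finset.sum_ite_eq, if_pos (Finset.mem_univ _)]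
  rw [Finset.sum_congr rfl fun r _ => this r, Finset.sum_const, Finset.card_univ]
  norm_num [Q, DihedralGroup.card]

theorem exists_degree [Fintype H] : 42 ∈ Cfsg.charDegrees H := by
  have h := CfsgLib.GLFlags.isIrrCharacter_of_norm_one
    (CfsgLib.Char.IsCharacter.isGeneralizedCharacter datum.isCharacter_value) inner_one
    ⟨42, by norm_num, by rw [value_one]; norm_num⟩
  exact ⟨⟨_, h⟩, by show Cfsg.charDegree datum.value = 42; rw [Cfsg.charDegree, value_one]; simp⟩

end CfsgLib.UThree.Witness
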